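import Cfsg.Agent.H629.CY.Defs
import Cfsg.Agent.H528.RatB.He

/-!
# S4829, sporadic groups: the Held group, `p = 7` (helper404)

The rational irreducible character of degree `1275 = 3 · 5² · 17` (a constituent of the permutation character of degree 2058)
lies in the principal 7-block: a 7-subgroup `⟨x, y⟩` of order 49 has a 7-group as its centralizer.

* `witOR_of_cent` : the general tool;
* `WitOR.congr` : isomorphic groups;
* `witOR_he_seven` : the row.
-/

set_option autoImplicit false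
set_option maxRecDepth 100000

namespace Cfsg.Agent.H404.CY

open Cfsg Subgroup Cfsg.Agent.Characters.Core Cfsg.Agent.H493.RatB Cfsg.Agent.H145.BR
open Cfsg.Agent.H629.CY

universe u v

/-- a rational valued character of odd degree prime to `p`, and a `p`-subgroup whose centralizer is a `p`-group -/
theorem witOR_of_cent {S : Type u} [Group S] [Finite S] {p : ℕ} [hp : Fact p.Prime] {U : Subgroup S}
    (hU : IsPGroup p U) (hC : IsPGroup p (centralizer (U : Set S))) (θ : IrrCharacter S)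
    (hne : (θ : S → ℂ) ≠ fun _ => 1) (hd : ¬ p ∣ charDegree (θ : S → ℂ)) (ho : Odd (charDegree (θ : S → ℂ)))
    (hr : RatV (θ : S → ℂ)) : WitOR p S :=
  fun _ hM => ⟨θ, H684.Principal.mem_of_not_dvd hM hU hC θ hd, hne, hd, ho, hr⟩

/-- isomorphic groups -/
theorem witOR_congr {p : ℕ} {S : Type u} [Group S] [Finite S] {T : Type v} [Group T] (e : S ≃* T) (h : WitOR p T) :
    WitOR p S := by
  intro M hM
  obtain ⟨θ, h1, h2, h3, h4, h5⟩ := h M hM
  have hdeg : charDegree (fun x : S => (θ : T → ℂ) (e x)) = charDegree (θ : T → ℂ) := by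
    rw [Blocks.Basic.charDegree_def, Blocks.Basic.charDegree_def, map_one]
  refine ⟨⟨_, isIrr_comp (e : S →* T) e.surjective θ.2⟩, mem_principalBlock_comp e h1, fun h6 => h2 ?_, ?_, ?_,
    fun g => h5 (e g)⟩
  · funext y
    obtain ⟨x, rfl⟩ := e.surjective y
    exact congrFun h6 x
  · show ¬ p ∣ charDegree (fun x : S => (θ : T → ℂ) (e x))
    rw [hdeg]
    exact h3
  · show Odd (charDegree (fun x : S => (θ : T → ℂ) (e x)))
    rw [hdeg]
    exact h4

section He

open Cfsg.Agent.SporadicB.HePerm Cfsg.Agent.H492.IMHeCnt Cfsg.Agent.H492.IMHeDat Cfsg.Agent.H528.RatB.He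

/-- **He, p = 7**, the model -/
theorem seven : WitOR 7 Cfsg.Spor.He := by
  have hfin := finite_he
  have h7 : Fact (Nat.Prime 7) := ⟨by norm_num⟩
  have hp := Cfsg.Agent.H492.IMHe.pair (p := 7) XB7 YB7 _ Cfsg.Agent.H492.IMHe.o7 Cfsg.Agent.H492.IMHe.oy7
    (by decide +kernel) (by decide +kernel) (by norm_num) qB7
  have hc := comm_of_chk (v := YB7) (w := XB7) (by decide +kernel)
  obtain ⟨hU, hC⟩ := isPGroup_pair (p := 7) Cfsg.Agent.H492.IMHe.o7 Cfsg.Agent.H492.IMHe.oy7 hc hp.2
  obtain ⟨χ, hχ, hχq, hχ1⟩ := Cfsg.Agent.H329.K4.He.exists_1275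
  obtain ⟨h1, h2⟩ := irr_facts hχ hχ1 (p := 7) (by norm_num) (by norm_num)
  refine witOR_of_cent hU hC ⟨χ, hχ⟩ h1 h2 ?_ hχq
  have h3 : charDegree ((⟨χ, hχ⟩ : IrrCharacter Cfsg.Spor.He) : Cfsg.Spor.He → ℂ) = 1275 :=
    Cfsg.Agent.Blocks.Basic.charDegree_of_eq hχ1
  rw [h3]
  decide

/-- **[row] He, p = 7** -/
theorem witOR_he_seven {S : Type u} [Group S] (h : Spor.IsoHe S) : WitOR 7 S := by
  obtain ⟨e⟩ := h
  have hfin := finite_he
  have : Finite S := Finite.of_equiv _ e.symm.toEquiv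
  exact witOR_congr e seven

end He

end Cfsg.Agent.H404.CY
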